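import Groth.Agent.Sga7.H754.SCDef
import Groth.Agent.Etcore.LimH
import Groth.Agent.Etcore.FGLim
import Mathlib.FieldTheory.KrullTopology

/-!
# Open stabilizers

`f : X ⟶ Y` quasi-compact and quasi-separated, `Ω / F` an algebraic extension over `Y`: every class
of `H^q(X ×_Y Ω, M)` comes from a finite subextension (`exists_PM_finite`), hence is fixed by an open
subgroup of `Aut(Ω / F)` (`exists_openSubgroup`); for finitely many classes or a finite cohomology
group there is one open subgroup fixing everything (`exists_openSubgroup_finite`).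
-/

set_option autoImplicit false
universe u
open CategoryTheory CategoryTheory.Limits AlgebraicGeometry Opposite
open scoped Groth.Agent.Etcore.EtInst
open Groth.Agent.Etcore Groth.Agent.Etcore.EtInst Groth.Agent.Etcore.PullCoh
  Groth.Agent.Etcore.HpullCalc Groth.Agent.Etcore.HC Groth.Agent.Etcore.HpVia
  Groth.Agent.Etcore.FGLim Groth.Agent.Sga7.H754.SCDef

namespace Groth.Agent.Sga7.H138.OpenStab

/-- `HC` and `hpVia`. -/
theorem HC_HHmap_pullConst (M : Type) [AddCommGroup M] {W X' X : Scheme.{u}} (g : W ⟶ X')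
    (t : X' ⟶ X) (s : W ⟶ X) (w : g ≫ t = s) (n : ℕ)
    (x : HH X' ((EtCoh.pull t).obj (EtCoh.const X M)) n) :
    HC M g n (HHmap (EtCore.pullConst t M).hom n x) =
      HHmap (EtCore.pullConst s M).hom n (hpVia g t s w (EtCoh.const X M) n x) := by
  rw [HC, hpl_map, pullConst_comp g t s w M, hpl_apply, HHmap_comp, ← hpVia_eq g t s w]

section General

variable {ι : Type u} [Preorder ι] [IsDirected ι (· ≤ ·)] [Nonempty ι]
  (T : ιᵒᵖ ⥤ Scheme.{u}) {S X : Scheme.{u}}
  (τ : ∀ a : ιᵒᵖ, T.obj a ⟶ S) (hτ : ∀ ⦃a b : ιᵒᵖ⦄ (h : a ⟶ b), T.map h ≫ τ b = τ a) (f : X ⟶ S)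
  [QuasiCompact f] [QuasiSeparated f]
  (c : Cone T) (hc : IsLimit c) (t : c.pt ⟶ S) (ht : ∀ a, c.π.app a ≫ τ a = t)
  (haff : ∀ ⦃a b : ιᵒᵖ⦄ (h : a ⟶ b), IsAffineHom (T.map h))
  (hqc : ∀ a, CompactSpace ↥(T.obj a)) (hqs : ∀ a, QuasiSeparatedSpace ↥(T.obj a))
  (M : Type) [AddCommGroup M] (p : ℕ)

include hτ hc ht haff hqc hqs

/-- Constant coefficients: every class on `X ×_S lim T_a` comes from a finite stage. -/
theorem exists_PM_of_lim (i₀ : ι) (ξ : HH (pullback f t) (EtCoh.const (pullback f t) M) p) :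
    ∃ (j : ι) (_ : i₀ ≤ j)
      (ξj : HH (pullback f (τ (op j))) (EtCoh.const (pullback f (τ (op j))) M) p),
      PM M f (c.π.app (op j)) (τ (op j)) t (ht (op j)) p ξj = ξ := by
  obtain ⟨x', hx'⟩ := (HHmap_bijective (EtCore.pullConst (pullback.fst f t) M).hom p).2 ξ
  obtain ⟨j, hj, y, hy⟩ := LimH.exists_of_pullbackLim T τ hτ f c hc t ht haff hqc hqs
    (EtCoh.const X M) p i₀ x'
  refine ⟨j, hj, HHmap (EtCore.pullConst (pullback.fst f (τ (op j))) M).hom p y, ?_⟩
  have h1 := HC_HHmap_pullConst M (PullbackLim.proj T τ f c t ht (op j))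
    (pullback.fst f (τ (op j))) (pullback.fst f t)
    (PullbackLim.proj_fst T τ f c t ht (op j)) p y
  rw [hy] at h1
  have h2 : PullbackLim.proj T τ f c t ht (op j) =
      bm f (c.π.app (op j)) (τ (op j)) t (ht (op j)) := by
    apply pullback.hom_ext
    · rw [PullbackLim.proj_fst, bm_fst]
    · rw [PullbackLim.proj_snd, bm_snd]
  rw [h2] at h1
  exact h1.trans hx'

end General

section Lim

variable {X Y : Scheme.{u}} (f : X ⟶ Y) [QuasiCompact f] [QuasiSeparated f]
  {F Ω : Type u} [Field F] [Field Ω] [Algebra F Ω]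
  (t : Spec (CommRingCat.of F) ⟶ Y) (t' : Spec (CommRingCat.of Ω) ⟶ Y)
  (w : Spec.map (CommRingCat.ofHom (algebraMap F Ω)) ≫ t = t')

include w in
/-- Every class on `X ×_Y Ω` comes from a finitely generated subalgebra of `Ω / F`. -/
theorem exists_PM_fg (M : Type) [AddCommGroup M] (q : ℕ)
    (x : HH (pullback f t') (EtCoh.const (pullback f t') M) q) :
    ∃ (B : Subalgebra F Ω) (_ : B.FG) (tB : Spec (CommRingCat.of B) ⟶ Y)
      (_ : Spec.map (CommRingCat.ofHom (algebraMap F B)) ≫ t = tB)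
      (wB : Spec.map (CommRingCat.ofHom (algebraMap B Ω)) ≫ tB = t')
      (y : HH (pullback f tB) (EtCoh.const (pullback f tB) M) q),
      PM M f (Spec.map (CommRingCat.ofHom (algebraMap B Ω))) tB t' wB q y = x := by
  let τ : ∀ a : (FGSub F Ω)ᵒᵖ, (PullbackLim.specSys (fgSys F Ω)).obj a ⟶ Y := fun a =>
    Spec.map (CommRingCat.ofHom (algebraMap F a.unop.1)) ≫ t
  have hτ : ∀ ⦃a b : (FGSub F Ω)ᵒᵖ⦄ (h : a ⟶ b),
      (PullbackLim.specSys (fgSys F Ω)).map h ≫ τ b = τ a := by
    intro a b h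
    refine (Category.assoc _ _ _).symm.trans (congrArg (· ≫ t) ?_)
    exact (Spec.map_comp _ _).symm
  have ht : ∀ a, (PullbackLim.specCone (fgSys F Ω) (fgCocone F Ω)).π.app a ≫ τ a = t' := by
    intro a
    rw [← w]
    refine (Category.assoc _ _ _).symm.trans (congrArg (· ≫ t) ?_)
    exact (Spec.map_comp _ _).symm
  obtain ⟨B, -, y, hy⟩ := exists_PM_of_lim (PullbackLim.specSys (fgSys F Ω)) τ hτ f
    (PullbackLim.specCone (fgSys F Ω) (fgCocone F Ω))
    (PullbackLim.isLimitSpecCone _ _ (isColimitFG F Ω)) t' ht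
    (fun _ _ h => PullbackLim.isAffineHom_specSys (fgSys F Ω) h)
    (fun a => by have := PullbackLim.isAffine_specSys (fgSys F Ω) a; infer_instance)
    (fun a => by have := PullbackLim.isAffine_specSys (fgSys F Ω) a; infer_instance)
    M q ⊥ x
  exact ⟨B.1, B.2, τ (op B), rfl, ht (op B), y, hy⟩

/-- A finitely generated subalgebra of an algebraic extension lies in a finite subextension. -/
theorem exists_finite_of_fg [Algebra.IsAlgebraic F Ω] (B : Subalgebra F Ω) (hB : B.FG) :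
    ∃ L : IntermediateField F Ω, FiniteDimensional F L ∧ B ≤ L.toSubalgebra := by
  obtain ⟨s, rfl⟩ := hB
  refine ⟨IntermediateField.adjoin F (s : Set Ω), ?_, ?_⟩
  · exact IntermediateField.finiteDimensional_adjoin fun x _ => Algebra.IsIntegral.isIntegral x
  · exact Algebra.adjoin_le (IntermediateField.subset_adjoin F _)

include w in
/-- Every class on `X ×_Y Ω`, `Ω / F` algebraic, comes from a finite subextension. -/
theorem exists_PM_finite [Algebra.IsAlgebraic F Ω] (M : Type) [AddCommGroup M] (q : ℕ)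
    (x : HH (pullback f t') (EtCoh.const (pullback f t') M) q) :
    ∃ (L : IntermediateField F Ω) (_ : FiniteDimensional F L) (tL : Spec (CommRingCat.of L) ⟶ Y)
      (_ : Spec.map (CommRingCat.ofHom (algebraMap F L)) ≫ t = tL)
      (wL : Spec.map (CommRingCat.ofHom (algebraMap L Ω)) ≫ tL = t')
      (y : HH (pullback f tL) (EtCoh.const (pullback f tL) M) q),
      PM M f (Spec.map (CommRingCat.ofHom (algebraMap L Ω))) tL t' wL q y = x := by
  obtain ⟨B, hB, tB, rfl, wB, y, rfl⟩ := exists_PM_fg f t t' w M q x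
  obtain ⟨L, hL, hBL⟩ := exists_finite_of_fg B hB
  have e1 : Spec.map (CommRingCat.ofHom (algebraMap L Ω)) ≫
      Spec.map (CommRingCat.ofHom (algebraMap F L)) ≫ t = t' := by
    rw [← w]
    refine (Category.assoc _ _ _).symm.trans (congrArg (· ≫ t) ?_)
    exact (Spec.map_comp _ _).symm
  have e2 : Spec.map (CommRingCat.ofHom (Subalgebra.inclusion hBL).toRingHom) ≫
      Spec.map (CommRingCat.ofHom (algebraMap F B)) ≫ t =
        Spec.map (CommRingCat.ofHom (algebraMap F L)) ≫ t := by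
    refine (Category.assoc _ _ _).symm.trans (congrArg (· ≫ t) ?_)
    exact (Spec.map_comp _ _).symm
  have e3 : Spec.map (CommRingCat.ofHom (algebraMap L Ω)) ≫
      Spec.map (CommRingCat.ofHom (Subalgebra.inclusion hBL).toRingHom) =
        Spec.map (CommRingCat.ofHom (algebraMap B Ω)) := (Spec.map_comp _ _).symm
  refine ⟨L, hL, Spec.map (CommRingCat.ofHom (algebraMap F L)) ≫ t, rfl, e1,
    PM M f (Spec.map (CommRingCat.ofHom (Subalgebra.inclusion hBL).toRingHom)) _ _ e2 q y, ?_⟩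
  exact PM_comp M f _ _ _ _ _ e2 e1 _ e3 q y

end Lim

section Galois

variable {X Y : Scheme.{u}} (f : X ⟶ Y)
  {F Ω : Type u} [Field F] [Field Ω] [Algebra F Ω]
  (t : Spec (CommRingCat.of F) ⟶ Y) (t' : Spec (CommRingCat.of Ω) ⟶ Y)
  (w : Spec.map (CommRingCat.ofHom (algebraMap F Ω)) ≫ t = t')

include w in
theorem spec_comp (σ : Ω ≃ₐ[F] Ω) :
    Spec.map (CommRingCat.ofHom (σ : Ω →+* Ω)) ≫ t' = t' := by
  rw [← w]
  refine (Category.assoc _ _ _).symm.trans (congrArg (· ≫ t) ?_)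
  refine (Spec.map_comp _ _).symm.trans (congrArg Spec.map ?_)
  refine (CommRingCat.ofHom_comp _ _).symm.trans (congrArg CommRingCat.ofHom ?_)
  exact RingHom.ext fun x => σ.commutes x

/-- A class coming from `L` is fixed by `L.fixingSubgroup`. -/
theorem PM_eq_of_mem_fixingSubgroup (M : Type) [AddCommGroup M] (q : ℕ)
    (L : IntermediateField F Ω) (tL : Spec (CommRingCat.of L) ⟶ Y)
    (wL : Spec.map (CommRingCat.ofHom (algebraMap L Ω)) ≫ tL = t')
    (y : HH (pullback f tL) (EtCoh.const (pullback f tL) M) q)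
    (σ : Ω ≃ₐ[F] Ω) (hσ : σ ∈ L.fixingSubgroup)
    (h : Spec.map (CommRingCat.ofHom (σ : Ω →+* Ω)) ≫ t' = t') :
    PM M f (Spec.map (CommRingCat.ofHom (σ : Ω →+* Ω))) t' t' h q
        (PM M f (Spec.map (CommRingCat.ofHom (algebraMap L Ω))) tL t' wL q y) =
      PM M f (Spec.map (CommRingCat.ofHom (algebraMap L Ω))) tL t' wL q y := by
  refine PM_comp M f _ _ _ _ _ wL h _ ?_ q y
  refine (Spec.map_comp _ _).symm.trans (congrArg Spec.map ?_)
  refine (CommRingCat.ofHom_comp _ _).symm.trans (congrArg CommRingCat.ofHom ?_)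
  exact RingHom.ext fun x => (L.mem_fixingSubgroup_iff σ).1 hσ _ x.2

include w in
/-- **Open stabilizers.** -/
theorem exists_openSubgroup [QuasiCompact f] [QuasiSeparated f] [Algebra.IsAlgebraic F Ω]
    (M : Type) [AddCommGroup M] (q : ℕ)
    (x : HH (pullback f t') (EtCoh.const (pullback f t') M) q) :
    ∃ U : OpenSubgroup (Ω ≃ₐ[F] Ω), ∀ σ ∈ U,
      ∀ h : Spec.map (CommRingCat.ofHom (σ : Ω →+* Ω)) ≫ t' = t',
      PM M f (Spec.map (CommRingCat.ofHom (σ : Ω →+* Ω))) t' t' h q x = x := by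
  obtain ⟨L, hL, tL, -, wL, y, rfl⟩ := exists_PM_finite f t t' w M q x
  exact ⟨⟨L.fixingSubgroup, L.fixingSubgroup_isOpen⟩, fun σ hσ h =>
    PM_eq_of_mem_fixingSubgroup f t' M q L tL wL y σ hσ h⟩

include w in
/-- Finitely many classes. -/
theorem exists_openSubgroup_of_finite_set [QuasiCompact f] [QuasiSeparated f]
    [Algebra.IsAlgebraic F Ω] (M : Type) [AddCommGroup M] (q : ℕ)
    (S : Set (HH (pullback f t') (EtCoh.const (pullback f t') M) q)) (hS : S.Finite) :
    ∃ U : OpenSubgroup (Ω ≃ₐ[F] Ω), ∀ σ ∈ U,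
      ∀ h : Spec.map (CommRingCat.ofHom (σ : Ω →+* Ω)) ≫ t' = t', ∀ x ∈ S,
      PM M f (Spec.map (CommRingCat.ofHom (σ : Ω →+* Ω))) t' t' h q x = x := by
  induction S, hS using Set.Finite.induction_on with
  | empty => exact ⟨⊤, fun _ _ _ x hx => hx.elim⟩
  | insert _ _ ih =>
    obtain ⟨U, hU⟩ := ih
    rename_i a s _ _
    obtain ⟨V, hV⟩ := exists_openSubgroup f t t' w M q a
    refine ⟨U ⊓ V, fun σ hσ h x hx => ?_⟩
    rcases Set.mem_insert_iff.1 hx with rfl | hx
    · exact hV σ hσ.2 h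
    · exact hU σ hσ.1 h x hx

include w in
/-- A finite cohomology group. -/
theorem exists_openSubgroup_of_finite [QuasiCompact f] [QuasiSeparated f]
    [Algebra.IsAlgebraic F Ω] (M : Type) [AddCommGroup M] (q : ℕ)
    [Finite (HH (pullback f t') (EtCoh.const (pullback f t') M) q)] :
    ∃ U : OpenSubgroup (Ω ≃ₐ[F] Ω), ∀ σ ∈ U,
      ∀ h : Spec.map (CommRingCat.ofHom (σ : Ω →+* Ω)) ≫ t' = t', ∀ x,
      PM M f (Spec.map (CommRingCat.ofHom (σ : Ω →+* Ω))) t' t' h q x = x := by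
  obtain ⟨U, hU⟩ := exists_openSubgroup_of_finite_set f t t' w M q Set.univ Set.finite_univ
  exact ⟨U, fun σ hσ h x => hU σ hσ h x trivial⟩

end Galois

section SepClosure

variable {X Y : Scheme.{u}} (f : X ⟶ Y) [QuasiCompact f] [QuasiSeparated f]

/-- The form used for S4074: `Ω` a separable closure of `F`, finite coefficients. -/
theorem exists_openSubgroup_sepClosure (F Ω : Type u) [Field F] [Field Ω] [Algebra F Ω]
    [IsSepClosure F Ω] (t : Spec (CommRingCat.of F) ⟶ Y) (t' : Spec (CommRingCat.of Ω) ⟶ Y)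
    (w : Spec.map (CommRingCat.ofHom (algebraMap F Ω)) ≫ t = t') (M : Type) [AddCommGroup M]
    (q : ℕ) (x : HH (pullback f t') (EtCoh.const (pullback f t') M) q) :
    ∃ U : OpenSubgroup (Ω ≃ₐ[F] Ω), ∀ σ ∈ U,
      PM M f (Spec.map (CommRingCat.ofHom (σ : Ω →+* Ω))) t' t' (spec_comp t t' w σ) q x = x := by
  have : Algebra.IsSeparable F Ω := IsSepClosure.separable
  obtain ⟨U, hU⟩ := exists_openSubgroup f t t' w M q x
  exact ⟨U, fun σ hσ => hU σ hσ _⟩

end SepClosure

end Groth.Agent.Sga7.H138.OpenStab
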